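import Cfsg.Agent.Lib.MaxClassCentralizer.Functional
import Cfsg.Agent.Lib.Blocks.ClassAlgebra
import Mathlib

/-!
# Groups with the class sizes of a nilpotent group

The elementary proof: for a Sylow `q`-subgroup `Q` the number of elements with class size prime to
`q` forces `Z(Q) = Z(G)_q` by a fixed-point congruence, and then `Q` is normal by a count.
-/

set_option autoImplicit false

namespace Cfsg.Agent.Lib.SameClassSizes

open Subgroup

universe u v

variable {G : Type u} [Group G] [Finite G]

theorem card_carrier (x : G) :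
    Nat.card (ConjClasses.mk x).carrier = (centralizer ({x} : Set G)).index := by
  rw [← Blocks.natCard_isConj x]
  exact Nat.card_congr (Equiv.subtypeEquivRight fun y => by
    rw [ConjClasses.mem_carrier_iff_mk_eq, ConjClasses.mk_eq_mk_iff_isConj]
    exact ⟨IsConj.symm, IsConj.symm⟩)

theorem card_eq_sum_classes {K : Type*} [Group K] [Finite K] [Fintype (ConjClasses K)]
    (S : ℕ → Prop) [DecidablePred S] :
    Nat.card {x : K // S (centralizer ({x} : Set K)).index} =
      ∑ C : ConjClasses K, if S (Nat.card C.carrier) then Nat.card C.carrier else 0 := by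
  rw [Nat.card_congr (Equiv.sigmaFiberEquiv
    (fun x : {x : K // S (centralizer ({x} : Set K)).index} => ConjClasses.mk x.1)).symm,
    Nat.card_sigma]
  refine Finset.sum_congr rfl fun C _ => ?_
  split_ifs with hC
  · exact Nat.card_congr
      { toFun := fun x => ⟨x.1.1, ConjClasses.mem_carrier_iff_mk_eq.2 x.2⟩
        invFun := fun y => ⟨⟨y.1, by
          rw [← card_carrier, ConjClasses.mem_carrier_iff_mk_eq.1 y.2]; exact hC⟩,
          ConjClasses.mem_carrier_iff_mk_eq.1 y.2⟩
        left_inv := fun x => rfl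
        right_inv := fun y => rfl }
  · haveI : IsEmpty {x : {x : K // S (centralizer ({x} : Set K)).index} //
        ConjClasses.mk x.1 = C} := ⟨fun x => hC (by
      rw [← x.2, card_carrier]; exact x.1.2)⟩
    exact Nat.card_of_isEmpty

theorem card_center_eq_index_one {K : Type*} [Group K] :
    Nat.card (center K) = Nat.card {x : K // (centralizer ({x} : Set K)).index = 1} := by
  refine Nat.card_congr (Equiv.subtypeEquivRight fun x => ?_)
  rw [index_eq_one, eq_top_iff, mem_center_iff]
  exact ⟨fun hx g _ => mem_centralizer_singleton_iff.2 (hx g),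
    fun hx g => mem_centralizer_singleton_iff.1 (hx (mem_top g))⟩

/-- Equal numbers of classes of each size give equal numbers of elements with class size in any
set. -/
theorem card_eq_of_sizes {H : Type v} [Group H] [Finite H]
    (h : ∀ k : ℕ, Nat.card {C : ConjClasses G // Nat.card C.carrier = k} =
      Nat.card {C : ConjClasses H // Nat.card C.carrier = k}) (S : ℕ → Prop) :
    Nat.card {x : G // S (centralizer ({x} : Set G)).index} =
      Nat.card {x : H // S (centralizer ({x} : Set H)).index} := by
  classical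
  have he : ∀ k, Nonempty ({C : ConjClasses G // Nat.card C.carrier = k} ≃
      {C : ConjClasses H // Nat.card C.carrier = k}) := fun k => by
    refine ⟨(Finite.equivFin _).trans ((finCongr (h k)).trans (Finite.equivFin _).symm)⟩
  let e : ConjClasses G ≃ ConjClasses H :=
    ((Equiv.sigmaFiberEquiv (fun C : ConjClasses G => Nat.card C.carrier)).symm.trans
      (Equiv.sigmaCongrRight fun k => (he k).some)).trans
      (Equiv.sigmaFiberEquiv (fun C : ConjClasses H => Nat.card C.carrier))
  have hesize : ∀ C, Nat.card (e C).carrier = Nat.card C.carrier := fun C =>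
    ((he (Nat.card C.carrier)).some ⟨C, rfl⟩).2
  haveI := Fintype.ofFinite (ConjClasses G)
  haveI := Fintype.ofFinite (ConjClasses H)
  rw [card_eq_sum_classes, card_eq_sum_classes, ← e.sum_comp]
  simp only [hesize]

theorem card_center_eq_sizes {H : Type v} [Group H] [Finite H]
    (h : ∀ k : ℕ, Nat.card {C : ConjClasses G // Nat.card C.carrier = k} =
      Nat.card {C : ConjClasses H // Nat.card C.carrier = k}) :
    Nat.card (center G) = Nat.card (center H) := by
  rw [card_center_eq_index_one, card_center_eq_index_one]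
  exact card_eq_of_sizes h (· = 1)

section Sylow

variable {q : ℕ} [hq : Fact q.Prime]

theorem not_dvd_relIndex_of_normalizes (Q : Sylow q G) (N : Subgroup G)
    (h : (Q : Subgroup G) ≤ normalizer (N : Set G)) : ¬ q ∣ (Q : Subgroup G).relIndex N := by
  intro hd
  rw [← MaxClassCentralizer.relIndex_sup_eq (Q : Subgroup G) N h] at hd
  exact Q.not_dvd_index (hd.trans ⟨_, (relIndex_mul_index le_sup_right).symm⟩)

omit hq in
theorem card_mul_relIndex' (A B : Subgroup G) :
    Nat.card ↥(A ⊓ B) * A.relIndex B = Nat.card B := by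
  rw [← inf_relIndex_right, ← Nat.card_congr (subgroupOfEquivOfLe (inf_le_right : A ⊓ B ≤ B)).toEquiv,
    relIndex, card_mul_index]

omit [Finite G] hq in
theorem le_normalizer_centralizer (A : Subgroup G) :
    normalizer (A : Set G) ≤ normalizer ((centralizer (A : Set G) : Subgroup G) : Set G) := by
  intro g hg
  have key : ∀ g ∈ normalizer (A : Set G), ∀ c ∈ centralizer (A : Set G),
      g * c * g⁻¹ ∈ centralizer (A : Set G) := fun g hg c hc => by
    rw [mem_centralizer_iff] at hc ⊢
    intro a ha
    have h := hc _ ((mem_normalizer_iff''.1 hg a).1 ha)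
    calc a * (g * c * g⁻¹) = g * (g⁻¹ * a * g * c) * g⁻¹ := by group
      _ = g * (c * (g⁻¹ * a * g)) * g⁻¹ := by rw [h]
      _ = g * c * g⁻¹ * a := by group
  refine mem_normalizer_iff.2 fun c => ⟨key g hg c, fun hc => ?_⟩
  simpa [mul_assoc] using key g⁻¹ (inv_mem hg) _ hc

/-- Elements with class size prime to `q` are those centralizing a Sylow `q`-subgroup. -/
theorem exists_sylow_le {x : G} (hx : ¬ q ∣ (centralizer ({x} : Set G)).index) :
    ∃ R : Sylow q G, (R : Subgroup G) ≤ centralizer ({x} : Set G) := by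
  set C := centralizer ({x} : Set G)
  let P : Sylow q C := default
  have hP : IsPGroup q ((P : Subgroup C).map C.subtype) := P.2.map _
  refine ⟨hP.toSylow ?_, by rw [IsPGroup.toSylow_coe]; exact map_subtype_le _⟩
  rw [index_map_subtype]
  exact fun h => (hq.out.dvd_mul.1 h).elim P.not_dvd_index hx

theorem not_dvd_of_le {x : G} (Q : Sylow q G) (h : (Q : Subgroup G) ≤ centralizer ({x} : Set G)) :
    ¬ q ∣ (centralizer ({x} : Set G)).index :=
  fun hd => Q.not_dvd_index (hd.trans (index_dvd_of_le h))

theorem card_inf_center {K : Type*} [Group K] [Finite K] (R : Sylow q K) :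
    Nat.card ↥((R : Subgroup K) ⊓ center K) = q ^ (Nat.card (center K)).factorization q := by
  obtain ⟨i, hi⟩ := IsPGroup.iff_card.1 (R.2.to_le (inf_le_left :
    (R : Subgroup K) ⊓ center K ≤ (R : Subgroup K)))
  have hr := not_dvd_relIndex_of_normalizes R (center K)
    (by rw [normalizer_eq_top]; exact le_top)
  have hne : (R : Subgroup K).relIndex (center K) ≠ 0 := index_ne_zero_of_finite
  rw [← card_mul_relIndex' (R : Subgroup K) (center K), hi,
    Nat.factorization_mul (pow_ne_zero _ hq.out.ne_zero) hne,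
    Finsupp.add_apply, hq.out.factorization_pow, Finsupp.single_eq_same,
    Nat.factorization_eq_zero_of_not_dvd hr, add_zero]

omit [Finite G] in
theorem sylow_index_eq {K : Type*} [Group K] [Finite K] (R : Sylow q K) :
    (R : Subgroup K).index = Nat.card K / q ^ (Nat.card K).factorization q := by
  rw [← Sylow.card_eq_multiplicity R]
  conv_rhs => rw [← card_mul_index (R : Subgroup K)]
  rw [Nat.mul_div_cancel_left _ Nat.card_pos]

/-- The count for a nilpotent group. -/
theorem card_of_nilpotent (hG : Group.IsNilpotent G) (Q : Sylow q G) :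
    Nat.card {x : G // ¬ q ∣ (centralizer ({x} : Set G)).index} =
      Nat.card ↥((Q : Subgroup G) ⊓ center G) * (Q : Subgroup G).index := by
  have hQn : ∀ {r : ℕ} [Fact r.Prime] (R : Sylow r G), (R : Subgroup G).Normal := fun R =>
    Sylow.normal_of_normalizerCondition Group.normalizerCondition_of_isNilpotent R
  have hset : Nat.card {x : G // ¬ q ∣ (centralizer ({x} : Set G)).index} =
      Nat.card (centralizer ((Q : Subgroup G) : Set G)) := by
    refine Nat.card_congr (Equiv.subtypeEquivRight fun x => ⟨fun hx => ?_, fun hx => ?_⟩)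
    · obtain ⟨R, hR⟩ := exists_sylow_le hx
      haveI := Sylow.unique_of_normal Q (hQn Q)
      obtain rfl : R = Q := Subsingleton.elim _ _
      exact mem_centralizer_iff.2 fun a ha => mem_centralizer_singleton_iff.1 (hR ha)
    · exact not_dvd_of_le Q fun a ha =>
        mem_centralizer_singleton_iff.2 (mem_centralizer_iff.1 hx a ha)
  set C := centralizer ((Q : Subgroup G) : Set G) with hC
  have hR : ∀ r : ℕ, r.Prime → r ≠ q → ¬ r ∣ C.index := by
    intro r hr hrq
    haveI : Fact r.Prime := ⟨hr⟩
    let R : Sylow r G := default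
    haveI := hQn R
    haveI := hQn Q
    refine fun h => R.not_dvd_index (h.trans (index_dvd_of_le ?_))
    intro a ha
    refine mem_centralizer_iff.2 fun b hb => ?_
    have hdis : Disjoint (Q : Subgroup G) (R : Subgroup G) :=
      IsPGroup.disjoint_of_ne q r (Ne.symm hrq) _ _ Q.2 R.2
    exact commute_of_normal_of_disjoint _ _ (hQn Q) (hQn R) hdis b a hb ha
  have hcen : (Q : Subgroup G) ⊓ center G = (Q : Subgroup G) ⊓ C := by
    refine le_antisymm (le_inf inf_le_left (inf_le_right.trans (center_le_centralizer _))) ?_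
    intro a ha
    refine ⟨ha.1, ?_⟩
    have htop : centralizer ({a} : Set G) = ⊤ := by
      rw [← index_eq_one]
      by_contra hne
      obtain ⟨r, hr, hrd⟩ := Nat.exists_prime_and_dvd hne
      haveI : Fact r.Prime := ⟨hr⟩
      let R : Sylow r G := default
      refine R.not_dvd_index (hrd.trans (index_dvd_of_le ?_))
      intro b hb
      refine mem_centralizer_singleton_iff.2 ?_
      by_cases hrq : r = q
      · subst hrq
        haveI := Sylow.unique_of_normal Q (hQn Q)
        have hRQ : R = Q := Subsingleton.elim _ _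
        rw [hRQ] at hb
        exact mem_centralizer_iff.1 ha.2 b hb
      · haveI := hQn R
        haveI := hQn Q
        exact (commute_of_normal_of_disjoint _ _ (hQn Q) (hQn R)
          (IsPGroup.disjoint_of_ne q r (Ne.symm hrq) _ _ Q.2 R.2) a b ha.1 hb).symm.eq
    exact mem_center_iff.2 fun g => mem_centralizer_singleton_iff.1 (htop ▸ mem_top g)
  rw [hset, hcen, ← card_mul_relIndex' (Q : Subgroup G) C]
  congr 1
  -- the index of `C` is a power of `q`
  haveI := hQn Q
  have h1 := relIndex_mul_index (le_sup_right : (Q : Subgroup G) ≤ C ⊔ (Q : Subgroup G))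
  rw [relIndex_sup_right] at h1
  rw [← h1]
  suffices hs : (C ⊔ (Q : Subgroup G)).index = 1 by rw [hs, mul_one]
  by_contra hne
  obtain ⟨r, hr, hrd⟩ := Nat.exists_prime_and_dvd hne
  by_cases hrq : r = q
  · subst hrq
    exact Q.not_dvd_index (hrd.trans (index_dvd_of_le le_sup_right))
  · exact hR r hr hrq (hrd.trans (index_dvd_of_le le_sup_left))

/-- The congruence step: the centre of a Sylow subgroup is central. -/
theorem inf_centralizer_eq (Q : Sylow q G)
    (hcount : Nat.card {x : G // ¬ q ∣ (centralizer ({x} : Set G)).index} =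
      Nat.card ↥((Q : Subgroup G) ⊓ center G) * (Q : Subgroup G).index) :
    (Q : Subgroup G) ⊓ centralizer ((Q : Subgroup G) : Set G) = (Q : Subgroup G) ⊓ center G := by
  classical
  set Z := (Q : Subgroup G) ⊓ center G with hZdef
  have hZc : ∀ z ∈ Z, ∀ g : G, g * z = z * g := fun z hz => mem_center_iff.1 hz.2
  haveI hZn : Z.Normal := ⟨fun z hz g => by rwa [hZc z hz g, mul_inv_cancel_right]⟩
  set C := centralizer ((Q : Subgroup G) : Set G) with hCdef
  have hZC : Z ≤ C := inf_le_right.trans (center_le_centralizer _)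
  let π := QuotientGroup.mk' Z
  -- the set is a union of cosets
  let T : Set (G ⧸ Z) := π '' {x : G | ¬ q ∣ (centralizer ({x} : Set G)).index}
  have hidxz : ∀ x : G, ∀ z ∈ Z,
      centralizer ({x * z} : Set G) = centralizer ({x} : Set G) := by
    intro x z hz
    ext g
    simp only [mem_centralizer_singleton_iff]
    rw [← mul_assoc, mul_assoc x z g, ← hZc z hz g, ← mul_assoc, mul_left_inj]
  have hpre : QuotientGroup.mk ⁻¹' T = {x : G | ¬ q ∣ (centralizer ({x} : Set G)).index} := by
    ext x
    refine ⟨?_, fun hx => ⟨x, hx, rfl⟩⟩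
    rintro ⟨y, hy, hyx⟩
    have hz : y⁻¹ * x ∈ Z := QuotientGroup.eq.1 hyx
    have := hidxz y _ hz
    rw [mul_inv_cancel_left] at this
    show ¬ q ∣ (centralizer ({x} : Set G)).index
    rw [this]
    exact hy
  have hT : Nat.card T = (Q : Subgroup G).index := by
    have h1 := Nat.card_congr (QuotientGroup.preimageMkEquivSubgroupProdSet Z T)
    rw [hpre, Nat.card_prod] at h1
    exact Nat.eq_of_mul_eq_mul_left Nat.card_pos (h1.symm.trans hcount)
  -- the action of `Q`
  have hstab : ∀ (u : G) (t : G ⧸ Z), t ∈ T → π u * t * (π u)⁻¹ ∈ T := by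
    rintro u _ ⟨x, hx, rfl⟩
    refine ⟨u * x * u⁻¹, ?_, by simp⟩
    show ¬ q ∣ _
    rw [← card_carrier, show ConjClasses.mk (u * x * u⁻¹) = ConjClasses.mk x from
      ConjClasses.mk_eq_mk_iff_isConj.2 (isConj_iff.2 ⟨u⁻¹, by simp [mul_assoc]⟩), card_carrier]
    exact hx
  letI : MulAction (Q : Subgroup G) T :=
    { smul := fun u t => ⟨π u * t.1 * (π u)⁻¹, hstab _ _ t.2⟩
      one_smul := fun t => Subtype.ext (by
        show π ((1 : (Q : Subgroup G)) : G) * t.1 * (π ((1 : (Q : Subgroup G)) : G))⁻¹ = t.1
        simp)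
      mul_smul := fun a b t => Subtype.ext (by
        show π ((a * b : (Q : Subgroup G)) : G) * t.1 * (π ((a * b : (Q : Subgroup G)) : G))⁻¹ =
          π a * (π b * t.1 * (π b)⁻¹) * (π a)⁻¹
        simp [mul_assoc]) }
  have hmod := IsPGroup.card_modEq_card_fixedPoints (p := q) (G := (Q : Subgroup G)) Q.2 T
  -- the fixed cosets lie in the centralizer
  have hfix : ∀ x : G, ¬ q ∣ (centralizer ({x} : Set G)).index →
      (∀ u ∈ (Q : Subgroup G), (u * x * u⁻¹)⁻¹ * x ∈ Z) → x ∈ C := by
    intro x hx hux
    obtain ⟨k, hk⟩ := IsPGroup.iff_card.1 (Q.2.to_le (inf_le_left : Z ≤ (Q : Subgroup G)))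
    set o := orderOf x
    have ho : 0 < o := orderOf_pos x
    set m := o / q ^ o.factorization q with hm
    set e := q ^ o.factorization q with he
    have hem : e * m = o := Nat.ordProj_mul_ordCompl_eq_self o q
    have hcop : Nat.Coprime e m := by
      refine Nat.Coprime.pow_left _ (hq.out.coprime_iff_not_dvd.2 ?_)
      exact Nat.not_dvd_ordCompl hq.out ho.ne'
    set w := x ^ m with hw
    set r := x ^ e with hr
    have hwe : w ^ e = 1 := by rw [hw, ← pow_mul, mul_comm, hem, pow_orderOf_eq_one]
    have hrm : r ^ m = 1 := by rw [hr, ← pow_mul, hem, pow_orderOf_eq_one]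
    have hcx : ∀ n : ℕ, centralizer ({x} : Set G) ≤ centralizer ({x ^ n} : Set G) :=
      fun n g hg => mem_centralizer_singleton_iff.2
        ((show Commute g x from mem_centralizer_singleton_iff.1 hg).pow_right n).eq
    have hpow : ∀ (n : ℕ), ∀ u ∈ (Q : Subgroup G), (u * x ^ n * u⁻¹)⁻¹ * x ^ n ∈ Z := by
      intro n u hu
      rw [← QuotientGroup.eq]
      have h1 : π (u * x * u⁻¹) = π x := QuotientGroup.eq.2 (hux u hu)
      show π (u * x ^ n * u⁻¹) = π (x ^ n)
      rw [map_pow, ← h1, ← map_pow, conj_pow]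
    have hrc : r ∈ C := by
      refine mem_centralizer_iff.2 fun u hu => ?_
      have hz := hpow e u hu
      set z := (u * r * u⁻¹)⁻¹ * r with hzd
      have hcomm : Commute (u * r * u⁻¹) z := hZc z hz _
      have hz1 : r = u * r * u⁻¹ * z := by rw [hzd]; group
      have hzm : z ^ m = 1 := by
        have h2 := congrArg (fun t => t ^ m) hz1
        simp only [hrm, hcomm.mul_pow, conj_pow, mul_one, mul_inv_cancel, one_mul] at h2
        exact h2.symm
      have hzq : z ^ q ^ k = 1 := by
        rw [← hk]
        exact congrArg Subtype.val (pow_card_eq_one' (x := (⟨z, hz⟩ : Z)))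
      have hord : orderOf z = 1 := by
        refine Nat.eq_one_of_dvd_coprimes ?_ (orderOf_dvd_of_pow_eq_one hzq)
          (orderOf_dvd_of_pow_eq_one hzm)
        exact Nat.Coprime.pow_left k (hq.out.coprime_iff_not_dvd.2 (Nat.not_dvd_ordCompl hq.out ho.ne'))
      rw [orderOf_eq_one_iff] at hord
      rw [hord, mul_one] at hz1
      exact eq_mul_inv_iff_mul_eq.1 hz1 |>.symm
    -- the q-part
    have hwN : ∀ u ∈ (Q : Subgroup G), w⁻¹ * u * w ∈ (Q : Subgroup G) := fun u hu => by
      have hz := hpow m u hu
      set z := (u * w * u⁻¹)⁻¹ * w with hzd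
      have h3 : u * w = w * z⁻¹ * u := by rw [hzd]; group
      have h4 : w⁻¹ * u * w = z⁻¹ * u := by
        rw [mul_assoc, h3]; group
      rw [h4]
      exact mul_mem (inv_mem hz.1) hu
    have hwnorm : w ∈ normalizer ((Q : Subgroup G) : Set G) := by
      have hmap : (Q : Subgroup G).map (MulAut.conj w⁻¹).toMonoidHom = (Q : Subgroup G) := by
        refine eq_of_le_of_card_ge ?_ ?_
        · rintro _ ⟨u, hu, rfl⟩
          simpa using hwN u hu
        · rw [card_map_of_injective (MulEquiv.injective _)]
      simpa using inv_mem (mem_normalizer_iff_map_conj_eq.2 hmap)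
    have hwQ : w ∈ (Q : Subgroup G) := by
      have hwp : IsPGroup q (zpowers w) := by
        obtain ⟨i, -, hi⟩ := (Nat.dvd_prime_pow hq.out).1 (orderOf_dvd_of_pow_eq_one hwe)
        exact IsPGroup.of_card (n := i) (by rw [Nat.card_zpowers, hi])
      have h := IsPGroup.inf_normalizer_sylow hwp Q
      exact (h ▸ (⟨mem_zpowers w, hwnorm⟩ : w ∈ zpowers w ⊓ normalizer ((Q : Subgroup G) : Set G)) :
        w ∈ zpowers w ⊓ (Q : Subgroup G)).2
    have hwC : w ∈ C := by
      set Y := (centralizer ({π w} : Set (G ⧸ Z))).comap π with hYdef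
      have hYm : ∀ g : G, g ∈ Y → g * w * g⁻¹ * w⁻¹ ∈ Z := fun g hg => by
        have h1 : π g * π w = π w * π g := mem_centralizer_singleton_iff.1 hg
        rw [← QuotientGroup.eq_one_iff]
        show π (g * w * g⁻¹ * w⁻¹) = 1
        simp only [map_mul, map_inv, h1, mul_inv_cancel_right, mul_inv_cancel]
      let f : Y →* Z :=
        { toFun := fun g => ⟨(g : G) * w * (g : G)⁻¹ * w⁻¹, hYm g g.2⟩
          map_one' := Subtype.ext (by simp)
          map_mul' := fun g g' => Subtype.ext (by
            have hz : ∀ x : G, x * ((g' : G) * w * (g' : G)⁻¹ * w⁻¹) =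
                (g' : G) * w * (g' : G)⁻¹ * w⁻¹ * x := hZc _ (hYm g' g'.2)
            show ((g : G) * g') * w * ((g : G) * g')⁻¹ * w⁻¹ =
              (g : G) * w * (g : G)⁻¹ * w⁻¹ * ((g' : G) * w * (g' : G)⁻¹ * w⁻¹)
            rw [hz]
            calc ((g : G) * g') * w * ((g : G) * g')⁻¹ * w⁻¹
                = (g : G) * ((g' : G) * w * (g' : G)⁻¹ * w⁻¹) * (w * (g : G)⁻¹ * w⁻¹) := by group
              _ = _ := by rw [hz]; group) }
      have hker : f.ker = (centralizer ({w} : Set G)).subgroupOf Y := by
        ext g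
        rw [MonoidHom.mem_ker, mem_subgroupOf, mem_centralizer_singleton_iff]
        show (⟨_, _⟩ : Z) = ⟨1, one_mem Z⟩ ↔ _
        rw [Subtype.mk.injEq, mul_inv_eq_one, mul_inv_eq_iff_eq_mul]
      have hd1 : (centralizer ({w} : Set G)).relIndex Y ∣ q ^ k := by
        rw [relIndex, ← hker, index_ker, ← hk]
        exact card_subgroup_dvd_card _
      have hle : centralizer ({w} : Set G) ≤ Y := fun g hg =>
        mem_centralizer_singleton_iff.2 (by
          rw [← map_mul, ← map_mul, mem_centralizer_singleton_iff.1 hg])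
      have hd2 : ¬ q ∣ (centralizer ({w} : Set G)).relIndex Y := fun h =>
        hx (h.trans (Dvd.dvd.trans ⟨_, (relIndex_mul_index hle).symm⟩ (index_dvd_of_le (hcx m))))
      have h1 : (centralizer ({w} : Set G)).relIndex Y = 1 :=
        Nat.eq_one_of_dvd_coprimes (Nat.Coprime.pow_left k (hq.out.coprime_iff_not_dvd.2 hd2)) hd1
          dvd_rfl
      refine mem_centralizer_iff.2 fun u hu => ?_
      refine mem_centralizer_singleton_iff.1 (relIndex_eq_one.1 h1 ?_)
      refine mem_centralizer_singleton_iff.2 ?_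
      have h2 : π (u * w * u⁻¹) = π w := QuotientGroup.eq.2 (hpow m u hu)
      rw [map_mul, map_mul, map_inv, mul_inv_eq_iff_eq_mul] at h2
      exact h2
    -- x is a product of powers of the two parts
    have hx' : x ∈ zpowers x := mem_zpowers x
    obtain ⟨a, b, hab⟩ : ∃ a b : ℤ, (e : ℤ) * a + (m : ℤ) * b = 1 :=
      ⟨Int.gcdA e m, Int.gcdB e m, by
        rw [← Int.gcd_eq_gcd_ab]; exact_mod_cast hcop⟩
    have hxe : x = r ^ a * w ^ b := by
      rw [hr, hw, ← zpow_natCast, ← zpow_natCast x m, ← zpow_mul, ← zpow_mul, ← zpow_add, hab,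
        zpow_one]
    rw [hxe]
    exact mul_mem (zpow_mem hrc a) (zpow_mem hwC b)
  -- the fixed points
  have hfp : Nat.card (MulAction.fixedPoints (Q : Subgroup G) T) = Z.relIndex C := by
    rw [relIndex, index]
    refine (Nat.card_congr (Equiv.ofBijective (fun c : C ⧸ Z.subgroupOf C =>
      (Quotient.liftOn' c (fun c : C => (⟨⟨π c, c, ?_, rfl⟩, ?_⟩ :
        MulAction.fixedPoints (Q : Subgroup G) T)) ?_)) ⟨?_, ?_⟩)).symm
    · exact not_dvd_of_le Q fun u hu =>
        mem_centralizer_singleton_iff.2 (mem_centralizer_iff.1 c.2 u hu)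
    · intro u
      refine Subtype.ext ?_
      show π u * π c * (π u)⁻¹ = π c
      rw [← map_mul, ← map_inv, ← map_mul, mem_centralizer_iff.1 c.2 u u.2, mul_inv_cancel_right]
    · intro c c' h
      rw [QuotientGroup.leftRel_apply, mem_subgroupOf] at h
      exact Subtype.ext (Subtype.ext (QuotientGroup.eq.2 h))
    · intro a b h
      induction a using QuotientGroup.induction_on
      induction b using QuotientGroup.induction_on
      exact QuotientGroup.eq.2 (mem_subgroupOf.2
        (QuotientGroup.eq.1 (congrArg Subtype.val (congrArg Subtype.val h))))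
    · rintro ⟨⟨t, x, hx, rfl⟩, hfixed⟩
      have hxC : x ∈ C := hfix x hx fun u hu => QuotientGroup.eq.1 (by
        have h := congrArg Subtype.val (hfixed ⟨u, hu⟩)
        show π (u * x * u⁻¹) = π x
        rw [map_mul, map_mul, map_inv]
        exact h)
      exact ⟨(⟨x, hxC⟩ : C), rfl⟩
  rw [hT, hfp] at hmod
  -- conclusion
  refine le_antisymm ?_ (le_inf inf_le_left hZC)
  have hQC : Z ≤ (Q : Subgroup G) ⊓ C := le_inf inf_le_left hZC
  obtain ⟨i, hi⟩ := IsPGroup.iff_card.1 (Q.2.to_le (inf_le_left :
    (Q : Subgroup G) ⊓ C ≤ (Q : Subgroup G)))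
  obtain ⟨j, -, hj⟩ := (Nat.dvd_prime_pow hq.out).1
    (hi ▸ (index_dvd_card (Z.subgroupOf ((Q : Subgroup G) ⊓ C)) :
      Z.relIndex ((Q : Subgroup G) ⊓ C) ∣ _))
  rcases Nat.eq_zero_or_pos j with rfl | hjpos
  · rw [pow_zero] at hj
    exact relIndex_eq_one.1 hj
  · exfalso
    have hd : q ∣ Z.relIndex C :=
      (dvd_trans (dvd_pow_self q hjpos.ne') hj.symm.dvd).trans
        ⟨_, (relIndex_mul_relIndex _ _ _ hQC inf_le_right).symm⟩
    exact Q.not_dvd_index ((Nat.ModEq.dvd_iff hmod dvd_rfl).2 hd)

/-- The normality step. -/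
theorem sylow_normal (Q : Sylow q G)
    (hcount : Nat.card {x : G // ¬ q ∣ (centralizer ({x} : Set G)).index} =
      Nat.card ↥((Q : Subgroup G) ⊓ center G) * (Q : Subgroup G).index) :
    (Q : Subgroup G).Normal := by
  classical
  set Z := (Q : Subgroup G) ⊓ center G with hZdef
  set C := centralizer ((Q : Subgroup G) : Set G) with hCdef
  set N := normalizer ((Q : Subgroup G) : Set G) with hNdef
  have hQC := inf_centralizer_eq Q hcount
  have hQN : (Q : Subgroup G) ≤ N := le_normalizer
  have hnormC : (Q : Subgroup G) ≤ normalizer (C : Set G) :=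
    le_normalizer.trans (le_normalizer_centralizer _)
  set c := (Q : Subgroup G).relIndex C with hc
  have hcardC : Nat.card C = Nat.card Z * c := by
    rw [← card_mul_relIndex' (Q : Subgroup G) C, hQC]
  have hi : N.index * c ≤ (Q : Subgroup G).index := by
    rw [← relIndex_mul_index hQN, mul_comm N.index, hc,
      ← MaxClassCentralizer.relIndex_sup_eq (Q : Subgroup G) C hnormC]
    refine Nat.mul_le_mul_right _ (Nat.le_of_dvd (Nat.pos_of_ne_zero index_ne_zero_of_finite) ?_)
    exact ⟨_, (relIndex_mul_relIndex _ _ _ le_sup_right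
      (sup_le (centralizer_le_normalizer _) le_normalizer)).symm⟩
  set S : Set G := {x : G | ¬ q ∣ (centralizer ({x} : Set G)).index} with hS
  have hZc : ∀ z ∈ Z, ∀ g : G, g * z = z * g := fun z hz => mem_center_iff.1 hz.2
  have hZS : (Z : Set G) ⊆ S := fun z hz => not_dvd_of_le Q fun u _ =>
    mem_centralizer_singleton_iff.2 (hZc z hz u)
  have hZC : Z ≤ C := inf_le_right.trans (center_le_centralizer _)
  have hinj : Nat.card ↥(S \ (Z : Set G)) ≤ N.index * Nat.card ↥((C : Set G) \ (Z : Set G)) := by
    rw [index, ← Nat.card_prod]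
    have key : ∀ x : ↥(S \ (Z : Set G)), ∃ g : G ⧸ N,
        (Quotient.out g)⁻¹ * x.1 * Quotient.out g ∈ (C : Set G) \ (Z : Set G) := by
      rintro ⟨x, hx, hxZ⟩
      obtain ⟨R, hR⟩ := exists_sylow_le hx
      obtain ⟨g, hg⟩ := MulAction.exists_smul_eq G Q R
      refine ⟨(g : G ⧸ N), ?_⟩
      obtain ⟨n, hn⟩ := QuotientGroup.mk_out_eq_mul N g
      rw [hn]
      constructor
      · refine mem_centralizer_iff.2 fun u hu => ?_
        have hu' : (g * n) * u * (g * (n : G))⁻¹ ∈ (R : Subgroup G) := by
          rw [← hg, Sylow.coe_subgroup_smul, mem_pointwise_smul_iff_inv_smul_mem]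
          simp only [MulAut.smul_def, ← map_inv, MulAut.conj_apply]
          have := (mem_normalizer_iff.1 n.2 u).1 hu
          simpa [mul_assoc] using this
        have h := mem_centralizer_singleton_iff.1 (hR hu')
        calc u * ((g * n)⁻¹ * x * (g * (n : G)))
            = (g * (n : G))⁻¹ * ((g * n) * u * (g * (n : G))⁻¹ * x) * (g * n) := by group
          _ = (g * (n : G))⁻¹ * (x * ((g * n) * u * (g * (n : G))⁻¹)) * (g * n) := by rw [h]
          _ = _ := by group
      · intro hz
        apply hxZ
        have h := hZc _ hz (g * (n : G))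
        have : x = (g * n) * ((g * n)⁻¹ * x * (g * (n : G))) * (g * (n : G))⁻¹ := by group
        rw [this, h, mul_inv_cancel_right]
        exact hz
    choose f hf using key
    refine Nat.card_le_card_of_injective
      (fun x => (f x, (⟨_, hf x⟩ : ↥((C : Set G) \ (Z : Set G))))) fun a b h => ?_
    rw [Prod.mk.injEq, Subtype.mk.injEq] at h
    obtain ⟨h1, h2⟩ := h
    rw [h1] at h2
    exact Subtype.ext (mul_left_cancel (mul_right_cancel h2))
  have e1 : Nat.card ↥(S \ (Z : Set G)) + Nat.card Z = Nat.card Z * (Q : Subgroup G).index := by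
    rw [← hcount]
    exact Set.ncard_sdiff_add_ncard_of_subset hZS (Set.toFinite _)
  have e2 : Nat.card ↥((C : Set G) \ (Z : Set G)) + Nat.card Z = Nat.card Z * c := by
    rw [← hcardC]
    exact Set.ncard_sdiff_add_ncard_of_subset hZC (Set.toFinite _)
  have hpos : 0 < Nat.card Z := Nat.card_pos
  have h1 := Nat.mul_le_mul_left (Nat.card Z) hi
  have hN1 : N.index ≤ 1 := by nlinarith
  have hN : N.index = 1 := le_antisymm hN1 (Nat.pos_of_ne_zero index_ne_zero_of_finite)
  exact normalizer_eq_top_iff.1 (index_eq_one.1 hN)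

end Sylow

/-- A group with the class sizes of a nilpotent group is nilpotent. -/
theorem isNilpotent {H : Type v} [Group H] [Finite H] (hH : Group.IsNilpotent H)
    (h : ∀ k : ℕ, Nat.card {C : ConjClasses G // Nat.card C.carrier = k} =
      Nat.card {C : ConjClasses H // Nat.card C.carrier = k}) : Group.IsNilpotent G := by
  refine (Group.isNilpotent_of_finite_tfae (G := G)).out 3 0 |>.1 ?_
  intro q hq Q
  haveI := hq
  let Q' : Sylow q H := default
  refine sylow_normal Q ?_
  have hsize := card_eq_of_sizes h (fun k => ¬ q ∣ k)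
  rw [hsize, card_of_nilpotent hH Q']
  have hcard : Nat.card G = Nat.card H := by
    have h0 := card_eq_of_sizes h (fun _ => True)
    rwa [Nat.card_congr (Equiv.subtypeUnivEquiv fun _ => trivial),
      Nat.card_congr (Equiv.subtypeUnivEquiv fun _ => trivial)] at h0
  rw [card_inf_center, card_inf_center, sylow_index_eq, sylow_index_eq, card_center_eq_sizes h, hcard]

end Cfsg.Agent.Lib.SameClassSizes
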